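import Groth.Prelude.Def_Wider
import Mathlib.RingTheory.FiniteLength
import Mathlib.RingTheory.Artinian.Ring
import Mathlib.RingTheory.Nakayama
import Mathlib.LinearAlgebra.Dual.Lemmas
import Mathlib.CategoryTheory.Linear.Basic
import Mathlib.CategoryTheory.Linear.LinearFunctor

/-!
# Self-equivalences of the category of finite length modules over a Noetherian local ring
-/

set_option autoImplicit false
set_option linter.style.haveILetI false

universe u

open CategoryTheory IsLocalRing

namespace Groth.Agent.FinLen6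

variable {A : Type u} [CommRing A] [IsLocalRing A]

theorem exists_pow_le_annihilator (N : Type u) [AddCommGroup N] [Module A N]
    [IsNoetherian A N] [IsArtinian A N] : ∃ n, maximalIdeal A ^ n ≤ Module.annihilator A N := by
  let c : ℕ →o (Submodule A N)ᵒᵈ :=
    ⟨fun n => OrderDual.toDual (maximalIdeal A ^ n • (⊤ : Submodule A N)),
      fun a b hab => Submodule.smul_mono_left (Ideal.pow_le_pow_right hab)⟩
  obtain ⟨n, hn⟩ := IsArtinian.monotone_stabilizes c
  refine ⟨n, fun a ha => Module.mem_annihilator.2 fun v => ?_⟩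
  have h : maximalIdeal A ^ n • (⊤ : Submodule A N) = ⊥ := by
    refine Submodule.eq_bot_of_le_smul_of_le_jacobson_bot (maximalIdeal A) _ (IsNoetherian.noetherian _) ?_
      (maximalIdeal_le_jacobson _)
    rw [← Submodule.mul_smul, ← pow_succ']
    exact (OrderDual.toDual.injective (hn (n + 1) n.le_succ)).le
  exact (Submodule.eq_bot_iff _).1 h _ (Submodule.smul_mem_smul ha Submodule.mem_top)

variable (A)

theorem isFiniteLength_quot [IsNoetherianRing A] (n : ℕ) : IsFiniteLength A (A ⧸ maximalIdeal A ^ (n + 1)) := by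
  refine isFiniteLength_iff_isNoetherian_isArtinian.2 ⟨inferInstance, ?_⟩
  have hne : maximalIdeal A ^ (n + 1) ≠ ⊤ := fun h =>
    (maximalIdeal.isMaximal A).ne_top (top_le_iff.1 (h ▸ Ideal.pow_le_self n.succ_ne_zero))
  haveI : Nontrivial (A ⧸ maximalIdeal A ^ (n + 1)) := Ideal.Quotient.nontrivial_iff.2 hne
  haveI : IsLocalRing (A ⧸ maximalIdeal A ^ (n + 1)) :=
    IsLocalRing.of_surjective' _ Ideal.Quotient.mk_surjective
  haveI : IsArtinianRing (A ⧸ maximalIdeal A ^ (n + 1)) := by
    refine (isArtinianRing_iff_isNilpotent_maximalIdeal _).2 ⟨n + 1, ?_⟩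
    rw [← IsLocalRing.map_maximalIdeal_of_surjective (Ideal.Quotient.mk (maximalIdeal A ^ (n + 1)))
      Ideal.Quotient.mk_surjective, ← Ideal.map_pow, Ideal.zero_eq_bot, Ideal.map_eq_bot_iff_le_ker, Ideal.mk_ker]
  exact isArtinian_of_surjective_algebraMap (S := A) (R := A ⧸ maximalIdeal A ^ (n + 1))
    Ideal.Quotient.mk_surjective

variable [IsNoetherianRing A]

/-- The finite length module A / m^(n+1). -/
noncomputable abbrev Q (n : ℕ) : Dual.FinLen A :=
  ⟨ModuleCat.of A (A ⧸ maximalIdeal A ^ (n + 1)), isFiniteLength_quot A n⟩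

/-- The class of 1 in A / m^(n+1). -/
noncomputable abbrev one (n : ℕ) : (Q A n).obj := Ideal.Quotient.mk (maximalIdeal A ^ (n + 1)) 1

variable {A}

theorem eq_smul_one (n : ℕ) (z : (Q A n).obj) : ∃ a : A, z = a • one A n := by
  obtain ⟨a, rfl⟩ := Submodule.Quotient.mk_surjective _ z
  refine ⟨a, ?_⟩
  show Submodule.Quotient.mk a = a • Submodule.Quotient.mk (1 : A)
  rw [← Submodule.Quotient.mk_smul, smul_eq_mul, mul_one]

theorem smul_one_eq_zero_iff (n : ℕ) (a : A) : a • one A n = 0 ↔ a ∈ maximalIdeal A ^ (n + 1) := by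
  show a • Submodule.Quotient.mk (1 : A) = 0 ↔ _
  rw [← Submodule.Quotient.mk_smul, smul_eq_mul, mul_one, Submodule.Quotient.mk_eq_zero]

/-- Killed by m^(n+1). -/
def Killed (n : ℕ) (X : Dual.FinLen A) : Prop := ∀ a ∈ maximalIdeal A ^ (n + 1), ∀ x : X.obj, a • x = 0

theorem exists_killed (X : Dual.FinLen A) : ∃ n, Killed n X := by
  haveI := (isFiniteLength_iff_isNoetherian_isArtinian.1 X.property).1
  haveI := (isFiniteLength_iff_isNoetherian_isArtinian.1 X.property).2
  obtain ⟨n, hn⟩ := exists_pow_le_annihilator (A := A) X.obj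
  exact ⟨n, fun a ha x => Module.mem_annihilator.1 (hn (Ideal.pow_le_pow_right n.le_succ ha)) x⟩

theorem Killed.mono {n n' : ℕ} {X : Dual.FinLen A} (h : Killed n X) (hn : n ≤ n') : Killed n' X :=
  fun a ha => h a (Ideal.pow_le_pow_right (Nat.add_le_add_right hn 1) ha)

theorem killed_Q (n : ℕ) : Killed n (Q A n) := fun a ha x => by
  obtain ⟨b, rfl⟩ := eq_smul_one n x
  rw [smul_comm, (smul_one_eq_zero_iff n a).2 ha, smul_zero]

/-- The morphism A / m^(n+1) ⟶ X determined by an element. -/
noncomputable def phi (n : ℕ) (X : Dual.FinLen A) (h : Killed n X) (x : X.obj) : Q A n ⟶ X :=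
  ObjectProperty.homMk (ModuleCat.ofHom (Submodule.liftQ _ (LinearMap.toSpanSingleton A X.obj x)
    (fun a ha => by simpa using h a ha x)))

theorem phi_one (n : ℕ) (X : Dual.FinLen A) (h : Killed n X) (x : X.obj) :
    (phi n X h x).hom (one A n) = x := by
  exact (Submodule.liftQ_apply _ _ (1 : A)).trans (one_smul A x)

theorem hom_ext_one {n : ℕ} {X : Dual.FinLen A} (f g : Q A n ⟶ X)
    (h : f.hom (one A n) = g.hom (one A n)) : f = g := by
  refine ObjectProperty.hom_ext _ (ModuleCat.hom_ext (LinearMap.ext fun z => ?_))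
  obtain ⟨a, rfl⟩ := eq_smul_one n z
  rw [map_smul, map_smul, h]

section

variable (F : Dual.FinLen A ⥤ Dual.FinLen A) [F.Full] [F.Faithful] [F.Additive] [F.Linear A]

theorem smul_id_map (a : A) (X : Dual.FinLen A) :
    (∀ x : X.obj, a • x = 0) ↔ ∀ y : (F.obj X).obj, a • y = 0 := by
  have key : ∀ Y : Dual.FinLen A, (∀ x : Y.obj, a • x = 0) ↔ a • 𝟙 Y = 0 := by
    intro Y
    constructor
    · intro h
      ext x
      exact h x
    · intro h x
      exact congrArg (fun f : Y ⟶ Y => f.hom x) h
  rw [key, key, ← CategoryTheory.Functor.map_id, ← F.map_smul]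
  constructor
  · intro h
    rw [h, F.map_zero]
  · intro h
    exact F.map_injective (by rw [h, F.map_zero])

theorem Killed.map {n : ℕ} {X : Dual.FinLen A} (h : Killed n X) : Killed n (F.obj X) :=
  fun a ha => (smul_id_map F a X).1 (h a ha)

variable (A) in
/-- The projection A / m^(n+2) ⟶ A / m^(n+1). -/
noncomputable abbrev p (n : ℕ) : Q A (n + 1) ⟶ Q A n :=
  phi (n + 1) (Q A n) ((killed_Q n).mono n.le_succ) (one A n)

variable (A) in
/-- The projection A / m^(n+1) ⟶ A / m. -/
noncomputable abbrev proj (n : ℕ) : Q A n ⟶ Q A 0 :=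
  phi n (Q A 0) ((killed_Q 0).mono n.zero_le) (one A 0)

theorem p_proj (n : ℕ) : p A n ≫ proj A n = proj A (n + 1) := by
  apply hom_ext_one
  rw [ObjectProperty.FullSubcategory.comp_hom, ConcreteCategory.comp_apply, phi_one, phi_one, phi_one]

theorem proj_zero : proj A 0 = 𝟙 _ := by
  apply hom_ext_one
  rw [phi_one]
  rfl

/-- A candidate generator of the image of A / m^(n+1). -/
def IsGen (n : ℕ) (g : (F.obj (Q A n)).obj) : Prop := (F.map (proj A n)).hom g ≠ 0

theorem exists_ne_zero : ∃ x : (F.obj (Q A 0)).obj, x ≠ 0 := by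
  by_contra! h
  have h1 := (smul_id_map F 1 (Q A 0)).2 (fun y => by rw [h y, smul_zero]) (one A 0)
  rw [smul_one_eq_zero_iff, pow_one] at h1
  exact (maximalIdeal.isMaximal A).ne_top ((Ideal.eq_top_iff_one _).2 h1)

theorem IsGen.span_eq_top {n : ℕ} {g : (F.obj (Q A n)).obj} (hg : IsGen F n g) :
    Submodule.span A {g} = ⊤ := by
  haveI : IsNoetherian A (F.obj (Q A n)).obj := (isFiniteLength_iff_isNoetherian_isArtinian.1 (F.obj (Q A n)).property).1
  set N : Submodule A (F.obj (Q A n)).obj := Submodule.span A {g} ⊔ maximalIdeal A • (⊤ : Submodule A (F.obj (Q A n)).obj) with hN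
  suffices hNt : N = ⊤ by
    exact top_le_iff.1 (Submodule.le_of_le_smul_of_le_jacobson_bot (N := Submodule.span A {g})
      (IsNoetherian.noetherian ⊤) (maximalIdeal_le_jacobson _) (hN.symm.trans hNt).ge)
  by_contra hne
  obtain ⟨y, hy⟩ : ∃ y, y ∉ N := by
    by_contra! h
    exact hne (Submodule.eq_top_iff'.2 h)
  have ht : Module.IsTorsionBySet A ((F.obj (Q A n)).obj ⧸ N) (maximalIdeal A : Set A) := by
    intro z a
    obtain ⟨z, rfl⟩ := Submodule.Quotient.mk_surjective _ z
    rw [← Submodule.Quotient.mk_smul, Submodule.Quotient.mk_eq_zero]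
    exact Submodule.mem_sup_right (Submodule.smul_mem_smul a.2 Submodule.mem_top)
  letI : Field (A ⧸ maximalIdeal A) := Ideal.Quotient.field _
  letI : Module (A ⧸ maximalIdeal A) ((F.obj (Q A n)).obj ⧸ N) := ht.module
  haveI : IsScalarTower A (A ⧸ maximalIdeal A) ((F.obj (Q A n)).obj ⧸ N) := ht.isScalarTower
  have hy0 : (Submodule.Quotient.mk y : (F.obj (Q A n)).obj ⧸ N) ≠ 0 := by simpa using hy
  obtain ⟨φ, hφ⟩ : ∃ φ : Module.Dual (A ⧸ maximalIdeal A) ((F.obj (Q A n)).obj ⧸ N), φ (Submodule.Quotient.mk y) ≠ 0 := by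
    by_contra! h
    exact hy0 ((Module.forall_dual_apply_eq_zero_iff (A ⧸ maximalIdeal A) _).1 h)
  obtain ⟨x, hx⟩ := exists_ne_zero F
  have hk : ∀ a ∈ maximalIdeal A, a • x = 0 := fun a ha =>
    ((killed_Q (A := A) 0).map F) a (by simpa using ha) x
  let j : (A ⧸ maximalIdeal A) →ₗ[A] (F.obj (Q A 0)).obj :=
    Submodule.liftQ _ (LinearMap.toSpanSingleton A (F.obj (Q A 0)).obj x) (fun a ha => by simpa using hk a ha)
  let h : F.obj (Q A n) ⟶ F.obj (Q A 0) := ObjectProperty.homMk (ModuleCat.ofHom
    (j.comp ((φ.restrictScalars A).comp N.mkQ)))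
  have hh : ∀ z, h.hom z = j (φ (Submodule.Quotient.mk z)) := fun z => rfl
  have hg0 : h.hom g = 0 := by
    rw [hh, (Submodule.Quotient.mk_eq_zero N).2 (Submodule.mem_sup_left (Submodule.mem_span_singleton_self g))]
    simp
  have hy1 : h.hom y ≠ 0 := by
    rw [hh]
    intro hzero
    obtain ⟨a, ha⟩ := Submodule.Quotient.mk_surjective _ (φ (Submodule.Quotient.mk y))
    rw [← ha] at hzero hφ
    have hax : a • x = 0 := (Submodule.liftQ_apply _ _ a).symm.trans hzero
    apply hφ
    rw [Submodule.Quotient.mk_eq_zero]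
    by_contra hau
    exact hx ((IsUnit.smul_eq_zero (not_not.1 fun hu => hau hu)).1 hax)
  obtain ⟨h0, hh0⟩ := F.map_surjective h
  obtain ⟨a, ha⟩ := eq_smul_one 0 (h0.hom (one A n))
  have h0eq : h0 = a • proj A n := by
    apply hom_ext_one
    rw [ha]
    show _ = a • (proj A n).hom (one A n)
    rw [phi_one]
  have heq : h = a • F.map (proj A n) := by rw [← hh0, h0eq, F.map_smul]
  have hag : a • (F.map (proj A n)).hom g = 0 := by
    rw [heq] at hg0
    exact hg0
  have ham : a ∈ maximalIdeal A := by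
    by_contra hau
    exact hg ((IsUnit.smul_eq_zero (not_not.1 fun hu => hau hu)).1 hag)
  apply hy1
  rw [heq]
  exact ((killed_Q (A := A) 0).map F) a (by simpa using ham) _

theorem IsGen.exists_smul {n : ℕ} {g : (F.obj (Q A n)).obj} (hg : IsGen F n g) (y : (F.obj (Q A n)).obj) :
    ∃ a : A, a • g = y :=
  Submodule.mem_span_singleton.1 (hg.span_eq_top F ▸ Submodule.mem_top)

theorem IsGen.smul_eq_zero_iff {n : ℕ} {g : (F.obj (Q A n)).obj} (hg : IsGen F n g) (a : A) :
    a • g = 0 ↔ a ∈ maximalIdeal A ^ (n + 1) := by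
  refine ⟨fun h => ?_, fun h => (killed_Q n).map F a h g⟩
  have h1 : ∀ y : (F.obj (Q A n)).obj, a • y = 0 := fun y => by
    obtain ⟨b, rfl⟩ := hg.exists_smul F y
    rw [smul_comm, h, smul_zero]
  exact (smul_one_eq_zero_iff n a).1 ((smul_id_map F a (Q A n)).2 h1 _)

theorem exists_isGen (n : ℕ) : ∃ g, IsGen F n g := by
  by_contra! h
  have h0 : F.map (proj A n) = 0 := by
    ext z
    exact not_not.1 (h z)
  have h1 : proj A n = 0 := F.map_injective (by rw [h0, F.map_zero])
  have h2 := congrArg (fun f : Q A n ⟶ Q A 0 => f.hom (one A n)) h1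
  simp only [phi_one] at h2
  have h3 : (1 : A) • one A 0 = 0 := (one_smul A _).trans (((phi_one n (Q A 0) ((killed_Q 0).mono n.zero_le) (one A 0)).symm.trans h2).trans rfl)
  rw [smul_one_eq_zero_iff, pow_one] at h3
  exact (maximalIdeal.isMaximal A).ne_top ((Ideal.eq_top_iff_one _).2 h3)

theorem exists_lift {n : ℕ} {g : (F.obj (Q A n)).obj} (hg : IsGen F n g) :
    ∃ g', IsGen F (n + 1) g' ∧ (F.map (p A n)).hom g' = g := by
  obtain ⟨g1, hg1⟩ := exists_isGen F (n + 1)
  have e : ∀ z, (F.map (proj A (n + 1))).hom z = (F.map (proj A n)).hom ((F.map (p A n)).hom z) := fun z => by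
    rw [← p_proj, F.map_comp]
    rfl
  have h2 : IsGen F n ((F.map (p A n)).hom g1) := by
    unfold IsGen
    rw [← e]
    exact hg1
  obtain ⟨u, hu⟩ := h2.exists_smul F g
  refine ⟨u • g1, ?_, by rw [map_smul, hu]⟩
  unfold IsGen
  rw [e, map_smul, hu]
  exact hg

/-- A compatible family of generators. -/
noncomputable def gen : ∀ n, {g : (F.obj (Q A n)).obj // IsGen F n g}
  | 0 => ⟨(exists_ne_zero F).choose, by
      unfold IsGen
      rw [proj_zero, F.map_id]
      exact (exists_ne_zero F).choose_spec⟩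
  | n + 1 => ⟨(exists_lift F (gen n).2).choose, (exists_lift F (gen n).2).choose_spec.1⟩

theorem gen_compat (n : ℕ) : (F.map (p A n)).hom (gen F (n + 1)).1 = (gen F n).1 :=
  (exists_lift F (gen F n).2).choose_spec.2

/-- The comparison map at level n. -/
noncomputable def eta (n : ℕ) (X : Dual.FinLen A) (h : Killed n X) (x : X.obj) : (F.obj X).obj :=
  (F.map (phi n X h x)).hom (gen F n).1

theorem eta_succ (n : ℕ) (X : Dual.FinLen A) (h : Killed n X) (x : X.obj) :
    eta F (n + 1) X (h.mono n.le_succ) x = eta F n X h x := by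
  have e : phi (n + 1) X (h.mono n.le_succ) x = p A n ≫ phi n X h x := by
    apply hom_ext_one
    rw [ObjectProperty.FullSubcategory.comp_hom, ConcreteCategory.comp_apply, phi_one, phi_one, phi_one]
  unfold eta
  rw [e, F.map_comp, ObjectProperty.FullSubcategory.comp_hom, ConcreteCategory.comp_apply, gen_compat]

theorem eta_le {n n' : ℕ} (hn : n ≤ n') (X : Dual.FinLen A) (h : Killed n X) (x : X.obj) :
    eta F n' X (h.mono hn) x = eta F n X h x := by
  induction hn with
  | refl => rfl
  | step hm ih => exact (eta_succ F _ X (h.mono hm) x).trans ih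

theorem eta_indep {n n' : ℕ} (X : Dual.FinLen A) (h : Killed n X) (h' : Killed n' X) (x : X.obj) :
    eta F n X h x = eta F n' X h' x :=
  (eta_le F (le_max_left n n') X h x).symm.trans (eta_le F (le_max_right n n') X h' x)

theorem eta_add (n : ℕ) (X : Dual.FinLen A) (h : Killed n X) (x y : X.obj) :
    eta F n X h (x + y) = eta F n X h x + eta F n X h y := by
  have e : phi n X h (x + y) = phi n X h x + phi n X h y := by
    apply hom_ext_one
    show _ = (phi n X h x).hom (one A n) + (phi n X h y).hom (one A n)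
    rw [phi_one, phi_one, phi_one]
  unfold eta
  rw [e, F.map_add]
  rfl

theorem eta_smul (n : ℕ) (X : Dual.FinLen A) (h : Killed n X) (a : A) (x : X.obj) :
    eta F n X h (a • x) = a • eta F n X h x := by
  have e : phi n X h (a • x) = a • phi n X h x := by
    apply hom_ext_one
    show _ = a • (phi n X h x).hom (one A n)
    rw [phi_one, phi_one]
  unfold eta
  rw [e, F.map_smul]
  rfl

theorem eta_bijective (n : ℕ) (X : Dual.FinLen A) (h : Killed n X) :
    Function.Bijective (eta F n X h) := by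
  constructor
  · intro x y hxy
    have key : ∀ z, eta F n X h z = 0 → z = 0 := by
      intro z hz
      have h1 : F.map (phi n X h z) = 0 := by
        ext w
        obtain ⟨b, rfl⟩ := (gen F n).2.exists_smul F w
        rw [map_smul]
        exact (congrArg (b • ·) hz).trans (smul_zero _)
      have h2 : phi n X h z = 0 := F.map_injective (by rw [h1, F.map_zero])
      have h3 := congrArg (fun f : Q A n ⟶ X => f.hom (one A n)) h2
      simp only [phi_one] at h3
      exact (phi_one n X h z).symm.trans (h3.trans rfl)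
    rw [← sub_eq_zero]
    apply key
    have := eta_add F n X h (x - y) y
    rw [sub_add_cancel, hxy] at this
    exact add_eq_right.1 this.symm
  · intro y
    set g := (gen F n).1
    have hker : LinearMap.ker (LinearMap.toSpanSingleton A (F.obj (Q A n)).obj g) = maximalIdeal A ^ (n + 1) := by
      ext a
      rw [LinearMap.mem_ker, LinearMap.toSpanSingleton_apply]
      exact (gen F n).2.smul_eq_zero_iff F a
    let q : (A ⧸ maximalIdeal A ^ (n + 1)) →ₗ[A] (F.obj (Q A n)).obj :=
      Submodule.liftQ _ (LinearMap.toSpanSingleton A _ g) hker.ge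
    have hq : Function.Bijective q := by
      refine ⟨?_, fun w => ?_⟩
      · rw [← LinearMap.ker_eq_bot]
        exact Submodule.ker_liftQ_eq_bot _ _ _ hker.le
      · obtain ⟨b, rfl⟩ := (gen F n).2.exists_smul F w
        exact ⟨Submodule.Quotient.mk b, (Submodule.liftQ_apply _ _ b).trans rfl⟩
    let e := LinearEquiv.ofBijective q hq
    let f : F.obj (Q A n) ⟶ F.obj X := ObjectProperty.homMk (ModuleCat.ofHom
      ((phi n (F.obj X) (h.map F) y).hom.hom.comp e.symm.toLinearMap))
    obtain ⟨f0, hf0⟩ := F.map_surjective f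
    refine ⟨f0.hom (one A n), ?_⟩
    have e1 : phi n X h (f0.hom (one A n)) = f0 := hom_ext_one _ _ (phi_one _ _ _ _)
    unfold eta
    rw [e1, hf0]
    show (phi n (F.obj X) (h.map F) y).hom (e.symm g) = y
    have e2 : e.symm g = one A n := by
      rw [LinearEquiv.symm_apply_eq]
      exact (show q (Submodule.Quotient.mk (1 : A)) = g from
        (Submodule.liftQ_apply _ _ (1 : A)).trans (one_smul A g)).symm
    rw [e2, phi_one]

theorem eta_natural (n : ℕ) {X Y : Dual.FinLen A} (f : X ⟶ Y) (h : Killed n X) (h' : Killed n Y) (x : X.obj) :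
    eta F n Y h' (f.hom x) = (F.map f).hom (eta F n X h x) := by
  have e : phi n Y h' (f.hom x) = phi n X h x ≫ f := by
    apply hom_ext_one
    rw [ObjectProperty.FullSubcategory.comp_hom, ConcreteCategory.comp_apply, phi_one, phi_one]
  unfold eta
  rw [e, F.map_comp]
  rfl

/-- The component of the natural isomorphism. -/
noncomputable def etaEquiv (X : Dual.FinLen A) : X.obj ≃ₗ[A] (F.obj X).obj :=
  LinearEquiv.ofBijective
    { toFun := eta F (exists_killed X).choose X (exists_killed X).choose_spec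
      map_add' := eta_add F _ X _
      map_smul' := eta_smul F _ X _ }
    (eta_bijective F _ X _)

theorem nonempty_iso_id : Nonempty (F ≅ 𝟭 (Dual.FinLen A)) :=
  ⟨Iso.symm (NatIso.ofComponents (fun X => ObjectProperty.isoMk _ (etaEquiv F X).toModuleIso) (fun {X Y} f => by
    ext x
    show eta F (exists_killed Y).choose Y _ (f.hom x) = (F.map f).hom (eta F (exists_killed X).choose X _ x)
    have hX := (exists_killed X).choose_spec.mono (le_max_left _ (exists_killed Y).choose)
    have hY := (exists_killed Y).choose_spec.mono (le_max_right (exists_killed X).choose _)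
    rw [eta_indep F Y _ hY, eta_indep F X _ hX]
    exact eta_natural F _ f hX hY x))⟩

end

end Groth.Agent.FinLen6
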